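import Cfsg.Agent.CpAutBig.FreeInv_m3
import Cfsg.Agent.BpSpor.MBigCo
import Cfsg.Agent.Prune
set_option linter.all false
prune_inst 0x7f00000000000000000000000000000000000000000000000000000000000000000000000000000000000000000000000000000000000000000000000000000000000000000000000000000000000000003fffffffffffffffffffffffffffbeffbdffffffff
open scoped Cfsg.Agent.FastGrp

/-!
# 3-elements of `Co0` commuting with an element of order 13 (helper773, for S5207)

* `sq_add` : if `x ∈ Co0` of order 13 and `y ∈ Co0` of order 3 commute then `1 + y + y² = 0` on the Leech lattice;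
* `not_nine` : no elementary abelian subgroup of order 9 commutes with an element of order 13.
-/

set_option autoImplicit false

namespace Cfsg.Agent.H773.Mon13

open Cfsg Polynomial Module Cfsg.Agent.SporadicStructure.Co0Base
open Cfsg.Agent.SigZeroCo2.Lin Cfsg.Agent.CpAutBig.TwoPrimes Cfsg.Agent.CpAutBig

theorem finrank_Sp : finrank ℚ Sp = 24 := by
  rw [Module.finrank_fintype_fun_eq_card]
  rfl

/-- A nonzero vector killed by a cyclotomic polynomial of degree `dim V` generates `V`. -/
theorem exists_poly {V : Type*} [AddCommGroup V] [Module ℚ V] [FiniteDimensional ℚ V] (f : Module.End ℚ V) {n : ℕ}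
    (hn : 0 < n) {u : V} (hu : u ≠ 0) (h : aeval f (cyclotomic n ℚ) u = 0) (hd : finrank ℚ V ≤ n.totient) (v : V) :
    ∃ p : ℚ[X], aeval f p u = v := by
  let L : degreeLT ℚ n.totient →ₗ[ℚ] V :=
    { toFun := fun p => aeval f (p : ℚ[X]) u
      map_add' := fun p q => by
        change aeval f ((p : ℚ[X]) + (q : ℚ[X])) u = _
        rw [map_add]; rfl
      map_smul' := fun c p => by
        change aeval f (c • (p : ℚ[X])) u = _
        rw [map_smul]; rfl }
  have hL : Function.Injective L := by
    rw [injective_iff_map_eq_zero]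
    rintro ⟨p, hp⟩ hz
    by_contra hne
    have hp0 : p ≠ 0 := fun h0 => hne (Subtype.ext h0)
    have hz' : aeval f p u = 0 := hz
    have hirr := cyclotomic.irreducible_rat hn
    have hcop : IsCoprime p (cyclotomic n ℚ) := by
      refine ((Irreducible.coprime_iff_not_dvd hirr).2 fun hd => ?_).symm
      have h1 := Polynomial.natDegree_le_of_dvd hd hp0
      rw [natDegree_cyclotomic] at h1
      rw [mem_degreeLT] at hp
      have h2 := (Polynomial.natDegree_lt_iff_degree_lt hp0).2 hp
      omega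
    obtain ⟨a, b, hab⟩ := hcop
    have h3 : aeval f (a * p + b * cyclotomic n ℚ) u = u := by
      rw [hab, map_one]; rfl
    rw [map_add, map_mul, map_mul] at h3
    have h4 : (aeval f a * aeval f p) u + (aeval f b * aeval f (cyclotomic n ℚ)) u = u := h3
    rw [Module.End.mul_apply, Module.End.mul_apply, hz', h, map_zero, map_zero, add_zero] at h4
    exact hu h4.symm
  have h1 := LinearMap.finrank_le_finrank_of_injective hL
  have h2 : finrank ℚ (degreeLT ℚ n.totient) = n.totient := by
    rw [(degreeLTEquiv ℚ n.totient).finrank_eq, finrank_fin_fun]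
  have : FiniteDimensional ℚ (degreeLT ℚ n.totient) :=
    (degreeLTEquiv ℚ n.totient).symm.finiteDimensional
  have h3 : Function.Surjective L :=
    (LinearMap.injective_iff_surjective_of_finrank_eq_finrank (by omega)).1 hL
  obtain ⟨p, hp⟩ := h3 v
  exact ⟨p, hp⟩

/-- **Commuting elements of orders 13 and 3.** -/
theorem sq_add {x y : Co0} (hx : orderOf x = 13) (hy : orderOf y = 3) (hyx : y * x = x * y) (v : Sp) :
    v + rep y v + rep y (rep y v) = 0 := by
  have hp : Nat.Prime 13 := by norm_num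
  have hq : Nat.Prime 3 := by norm_num
  have hpq : (13 : ℕ) ≠ 3 := by norm_num
  have hfree := BpSpor.MBigCo.free_thirteen hx
  have hcomm : Commute (rep x) (rep y) := by
    change rep x * rep y = rep y * rep x
    rw [← map_mul, ← map_mul, hyx]
  have hX : (rep x) ^ 13 = 1 := by rw [← map_pow, ← hx, pow_orderOf_eq_one, map_one]
  have hY : (rep y) ^ 3 = 1 := by rw [← map_pow, ← hy, pow_orderOf_eq_one, map_one]
  obtain ⟨X', hX'⟩ : ∃ X', X' = rep x := ⟨_, rfl⟩
  obtain ⟨Y', hY'⟩ : ∃ Y', Y' = rep y := ⟨_, rfl⟩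
  rw [← hX'] at hX hcomm
  rw [← hY'] at hY hcomm ⊢
  have hXf : ∀ v, X' v = v → v = 0 := fun v hv => free_rep hfree (by rw [← hX']; exact hv)
  -- a vector moved by `y`
  obtain ⟨w, hw⟩ : ∃ w, Y' w ≠ w := by
    by_contra hcon
    push Not at hcon
    have h1 : rep y = 1 := by
      rw [← hY']
      exact LinearMap.ext hcon
    have h2 : y = 1 := rep_injective (by rw [h1, map_one])
    rw [h2, orderOf_one] at hy
    exact hq.one_lt.ne hy
  obtain ⟨g, hg⟩ : ∃ g, g = X' * Y' := ⟨_, rfl⟩
  have hgn : ∀ n, g ^ n = X' ^ n * Y' ^ n := fun n => by rw [hg, hcomm.mul_pow]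
  have hgq : g ^ 3 = X' ^ 3 := by rw [hgn, hY, mul_one]
  have hgp : g ^ 13 = Y' ^ 13 := by rw [hgn, hX, one_mul]
  have hgpq : g ^ (3 * 13) = 1 := by rw [pow_mul, hgq, ← pow_mul, mul_comm, pow_mul, hX, one_pow]
  have hgY : Commute g Y' := by
    rw [hg]
    exact hcomm.mul_left (Commute.refl _)
  have hcop : Nat.Coprime 3 13 := by norm_num
  have hone : ∀ (T : Module.End ℚ Sp) (a b : ℕ) (_ : a.Coprime b) (_ : T ^ b = 1) (v : Sp), (T ^ a) v = v → T v = v := by
    intro T a b hab hT v hv
    have hpow : ∀ k, (T ^ (a * k)) v = v := by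
      intro k
      induction k with
      | zero => rw [mul_zero, pow_zero]; rfl
      | succ k ih => rw [mul_add, mul_one, pow_add, Module.End.mul_apply, hv, ih]
    by_cases hb : b = 1
    · rw [hb, pow_one] at hT
      rw [hT]; rfl
    by_cases hb0 : b = 0
    · rw [hb0, Nat.coprime_zero_right] at hab
      rw [hab, pow_one] at hv
      exact hv
    obtain ⟨m, hm⟩ := Nat.exists_mul_mod_eq_one_of_coprime hab (by omega)
    have h1 : T ^ (a * m) = T := by
      conv_rhs => rw [← pow_one T]
      rw [← Nat.div_add_mod (a * m) b, hm.2, pow_add, pow_mul, hT, one_pow, one_mul]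
    rw [← h1]
    exact hpow m
  -- the vector killed by the cyclotomic polynomial
  let u := Y' w - w
  have hu : u ≠ 0 := sub_ne_zero.2 hw
  have hpol : (X ^ 3 - 1) * ((X ^ 13 - 1) * cyclotomic (3 * 13) ℚ) = (X - 1) * (X ^ (3 * 13) - 1) := by
    rw [mul_comm (X - 1), ← cyclotomic_mul hp hq hpq]
    ring
  have key := congrArg (fun P : ℚ[X] => aeval g P u) hpol
  simp only [map_mul, map_sub, map_pow, aeval_X, map_one] at key
  rw [hgpq, sub_self, mul_zero, hgq, hgp] at key
  obtain ⟨u', hu'⟩ : ∃ u', u' = aeval g (cyclotomic (3 * 13) ℚ) u := ⟨_, rfl⟩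
  have key2 : (X' ^ 3 - 1 : Module.End ℚ Sp) ((Y' ^ 13 - 1 : Module.End ℚ Sp) u') = 0 := by
    rw [hu']
    exact key
  have h1 : (Y' ^ 13 - 1 : Module.End ℚ Sp) u' = 0 := by
    obtain ⟨t, ht⟩ : ∃ t, t = (Y' ^ 13 - 1 : Module.End ℚ Sp) u' := ⟨_, rfl⟩
    rw [← ht] at key2 ⊢
    have h2 : (X' ^ 3) t - t = 0 := key2
    exact hXf t (hone X' 3 13 hcop hX t (sub_eq_zero.1 h2))
  have h2 : Y' u' = u' := by
    have h3 : (Y' ^ 13) u' - u' = 0 := h1
    exact hone Y' 13 3 hcop.symm hY u' (sub_eq_zero.1 h3)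
  have hcY : ∀ P : ℚ[X], Commute (aeval g P) Y' := by
    intro P
    have := Polynomial.aeval_eq_sum_range (p := P) g
    rw [this]
    apply Commute.sum_left
    intro i _
    exact (hgY.pow_left i).smul_left _
  have h3 : u' = Y' (aeval g (cyclotomic (3 * 13) ℚ) w) - aeval g (cyclotomic (3 * 13) ℚ) w := by
    have h4 : aeval g (cyclotomic (3 * 13) ℚ) (Y' w) = Y' (aeval g (cyclotomic (3 * 13) ℚ) w) := by
      rw [← Module.End.mul_apply, ← Module.End.mul_apply, (hcY _).eq]
    rw [hu', ← h4]
    exact map_sub _ _ _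
  have h4 := eq_zero_of_range Y' hq.pos hY h2 h3
  have h5 : finrank ℚ Sp ≤ (3 * 13 : ℕ).totient := by
    rw [finrank_Sp, Nat.totient_mul hcop, Nat.totient_prime hq, Nat.totient_prime hp]
  obtain ⟨P, hP⟩ := exists_poly g (by norm_num) hu (hu'.symm.trans h4) h5 v
  have h6 : u + Y' u + Y' (Y' u) = 0 := by
    have h7 : Y' (Y' (Y' w)) = w := by
      have h9 : (Y' ^ 3) w = w := by rw [hY]; rfl
      exact h9
    change (Y' w - w) + Y' (Y' w - w) + Y' (Y' (Y' w - w)) = 0
    simp only [map_sub]
    rw [h7]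
    abel
  have h8 : ∀ t, Y' (aeval g P t) = aeval g P (Y' t) := by
    intro t
    rw [← Module.End.mul_apply, ← Module.End.mul_apply, (hcY P).eq]
  rw [← hP, h8, h8, ← map_add, ← map_add, h6, map_zero]

/-- no elementary abelian subgroup of order 9 commutes with an element of order 13 -/
theorem not_nine {x v w : Co0} (hx : orderOf x = 13) (hv : orderOf v = 3) (hw : orderOf w = 3)
    (h1 : orderOf (v * w) = 3) (h2 : orderOf (v * (w * w)) = 3) (hvx : v * x = x * v) (hwx : w * x = x * w)
    (hvw : v * w = w * v) : False := by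
  obtain ⟨V, hV⟩ : ∃ V, V = rep v := ⟨_, rfl⟩
  obtain ⟨W, hW⟩ : ∃ W, W = rep w := ⟨_, rfl⟩
  have hVW : V * W = W * V := by rw [hV, hW, ← map_mul, ← map_mul, hvw]
  have key : ∀ y : Co0, orderOf y = 3 → y * x = x * y → 1 + rep y + rep y * rep y = 0 := by
    intro y hy hyx
    apply LinearMap.ext
    intro t
    exact sq_add hx hy hyx t
  have e1 := key v hv hvx
  have e2 := key w hw hwx
  have e3 := key (v * w) h1 (by rw [mul_assoc, hwx, ← mul_assoc, hvx, mul_assoc])
  have e4 := key (v * (w * w)) h2 (by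
    rw [mul_assoc, mul_assoc, hwx, ← mul_assoc w x w, hwx, ← mul_assoc, ← mul_assoc, hvx]
    simp only [mul_assoc])
  simp only [map_mul] at e3 e4
  rw [← hV] at e1 e3 e4
  rw [← hW] at e2 e3 e4
  have hW3 : W * W * W = 1 := by
    rw [hW, ← map_mul, ← map_mul]
    have h9 : w ^ 3 = 1 := by rw [← hw, pow_orderOf_eq_one]
    have h10 : w * w * w = 1 := by rw [← h9, pow_succ, pow_two]
    rw [h10, map_one]
  have e5 : (V * W) * (V * W) = V * V * (W * W) := by
    calc (V * W) * (V * W) = V * (W * V) * W := by noncomm_ring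
      _ = V * (V * W) * W := by rw [hVW]
      _ = V * V * (W * W) := by noncomm_ring
  have e6 : (V * (W * W)) * (V * (W * W)) = V * V * W := by
    calc (V * (W * W)) * (V * (W * W)) = V * (W * (W * V)) * (W * W) := by noncomm_ring
      _ = V * (W * (V * W)) * (W * W) := by rw [hVW]
      _ = V * ((W * V) * W) * (W * W) := by noncomm_ring
      _ = V * ((V * W) * W) * (W * W) := by rw [hVW]
      _ = V * V * W * (W * W * W) := by noncomm_ring
      _ = V * V * W := by rw [hW3, mul_one]
  rw [e5] at e3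
  rw [e6] at e4
  have e7 : (1 + V + V * V) * (1 + W + W * W) = 0 := by rw [e1, zero_mul]
  have e8 : (1 + V + V * V) * (1 + W + W * W) = (1 + V + V * V) + (1 + W + W * W) + (1 + V * W + V * V * (W * W)) +
      (1 + V * (W * W) + V * V * W) - (1 + 1 + 1) := by noncomm_ring
  rw [e7, e1, e2, e3, e4, add_zero, add_zero, add_zero, zero_sub] at e8
  have e9 : (1 + 1 + 1 : Module.End ℚ Sp) = 0 := neg_eq_zero.1 e8.symm
  have h11 : finrank ℚ Sp = 0 := by
    have h12 : ∀ t : Sp, t = 0 := by
      intro t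
      have h14 : t + t + t = 0 := congrArg (fun f : Module.End ℚ Sp => f t) e9
      have h13 : (3 : ℚ) • t = 0 := by
        rw [← h14]
        module
      rcases smul_eq_zero.1 h13 with h | h
      · norm_num at h
      · exact h
    have : Subsingleton Sp := ⟨fun a b => by rw [h12 a, h12 b]⟩
    exact Module.finrank_zero_of_subsingleton
  rw [finrank_Sp] at h11
  norm_num at h11

end Cfsg.Agent.H773.Mon13
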